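import Mathlib.GroupTheory.FiniteAbelian.Basic
import Mathlib.Data.ZMod.Basic
import Mathlib.Data.Nat.Prime.Basic
import Mathlib.Algebra.BigOperators.Fin

/-! Abelian groups of bounded exponent, given order and small rank are homocyclic. -/

set_option autoImplicit false

namespace Cfsg.Agent.Chev.HomSylow

theorem homocyclic_of_card {P : Type*} [CommGroup P] [Finite P] {r v k : ℕ} (hr : r.Prime)
    (hexp : ∀ x : P, x ^ r ^ v = 1) (hcard : Nat.card P = r ^ (v * k))
    (hrank : Nat.card {x : P // x ^ r = 1} ≤ r ^ k) :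
    Nonempty (P ≃* (Fin k → Multiplicative (ZMod (r ^ v)))) := by
  classical
  rcases Nat.eq_zero_or_pos v with rfl | hv
  · haveI : Subsingleton P := (Nat.card_eq_one_iff_unique.1 (by simpa using hcard)).1
    haveI : Unique P := uniqueOfSubsingleton 1
    haveI : Unique (Multiplicative (ZMod (r ^ 0))) := by rw [pow_zero]; infer_instance
    exact ⟨MulEquiv.ofUnique⟩
  obtain ⟨ι, hι, n, hn, ⟨e⟩⟩ := CommGroup.equiv_prod_multiplicative_zmod_of_finite P
  haveI : ∀ i, NeZero (n i) := fun i => ⟨by have := hn i; omega⟩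
  -- the factors
  have ha : ∀ i, ∃ a, 1 ≤ a ∧ a ≤ v ∧ n i = r ^ a := by
    intro i
    let u : Multiplicative (ZMod (n i)) := Multiplicative.ofAdd (1 : ZMod (n i))
    let x : (j : ι) → Multiplicative (ZMod (n j)) := Pi.mulSingle i u
    have h1 := congrArg e (hexp (e.symm x))
    rw [map_pow, MulEquiv.apply_symm_apply, map_one] at h1
    have h2 := congrFun h1 i
    simp only [x, u] at h2
    rw [Pi.pow_apply, Pi.mulSingle_eq_same, Pi.one_apply, ← ofAdd_nsmul, ofAdd_eq_one, nsmul_one,
      ZMod.natCast_eq_zero_iff] at h2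
    obtain ⟨a, hav, e'⟩ := (Nat.dvd_prime_pow hr).1 h2
    refine ⟨a, Nat.pos_of_ne_zero fun a0 => ?_, hav, e'⟩
    rw [a0, pow_zero] at e'
    have := hn i
    omega
  choose a ha1 hav han using ha
  have hsum : ∑ i, a i = v * k := by
    refine Nat.pow_right_injective hr.two_le ?_
    show r ^ (∑ i, a i) = r ^ (v * k)
    rw [← hcard, Nat.card_congr e.toEquiv, Nat.card_pi, ← Finset.prod_pow_eq_pow_sum]
    exact Finset.prod_congr rfl fun i _ => by rw [Nat.card_congr Multiplicative.toAdd, Nat.card_zmod, han]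
  -- the elements of order r
  have hι : Fintype.card ι ≤ k := by
    have hel : ∀ (f : ι → Fin r), (fun i => Multiplicative.ofAdd ((f i : ℕ) * r ^ (a i - 1) : ZMod (n i))) ^ r = 1 := by
      intro f
      funext i
      rw [Pi.pow_apply, ← ofAdd_nsmul, Pi.one_apply, ofAdd_eq_one, nsmul_eq_mul, mul_left_comm, ← pow_succ',
        show a i - 1 + 1 = a i by have := ha1 i; omega]
      have : ((r : ZMod (n i))) ^ a i = 0 := by rw [← Nat.cast_pow, ← han, ZMod.natCast_self]
      rw [this, mul_zero]
    have hinj : Function.Injective fun f : ι → Fin r =>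
        (⟨e.symm (fun i => Multiplicative.ofAdd ((f i : ℕ) * r ^ (a i - 1) : ZMod (n i))),
          by rw [← map_pow, hel, map_one]⟩ : {x : P // x ^ r = 1}) := by
      intro f g h
      have h1 := e.symm.injective (congrArg Subtype.val h)
      funext i
      have h2 := Multiplicative.ofAdd.injective (congrFun h1 i)
      have hlt : ∀ j : Fin r, (j : ℕ) * r ^ (a i - 1) < n i := fun j => by
        rw [han, show r ^ a i = r * r ^ (a i - 1) by rw [← pow_succ', show a i - 1 + 1 = a i by have := ha1 i; omega]]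
        exact Nat.mul_lt_mul_of_pos_right j.isLt (pow_pos hr.pos _)
      have h3 : ((((f i : ℕ) * r ^ (a i - 1) : ℕ)) : ZMod (n i)) = (((g i : ℕ) * r ^ (a i - 1) : ℕ) : ZMod (n i)) := by
        push_cast; exact h2
      rw [ZMod.natCast_eq_natCast_iff', Nat.mod_eq_of_lt (hlt _), Nat.mod_eq_of_lt (hlt _)] at h3
      exact Fin.ext (Nat.eq_of_mul_eq_mul_right (pow_pos hr.pos _) h3)
    have h1 := (Nat.card_le_card_of_injective _ hinj).trans hrank
    rw [Nat.card_fun, Nat.card_fin, Nat.card_eq_fintype_card] at h1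
    exact (Nat.pow_le_pow_iff_right hr.one_lt).1 h1
  have hk : Fintype.card ι = k := by
    have h1 := Finset.sum_le_card_nsmul Finset.univ a v fun i _ => hav i
    rw [hsum, smul_eq_mul, Finset.card_univ, mul_comm v k] at h1
    exact le_antisymm hι (Nat.le_of_mul_le_mul_right h1 hv)
  have hall : ∀ i, n i = r ^ v := by
    intro i
    rw [han]
    congr 1
    by_contra hne
    have h1 := Finset.sum_lt_sum (s := Finset.univ) (f := a) (g := fun _ => v) (fun j _ => hav j)
      ⟨i, Finset.mem_univ i, lt_of_le_of_ne (hav i) hne⟩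
    rw [hsum, Finset.sum_const, Finset.card_univ, hk, smul_eq_mul, mul_comm] at h1
    exact lt_irrefl _ h1
  let c : ∀ i, Multiplicative (ZMod (n i)) ≃* Multiplicative (ZMod (r ^ v)) := fun i =>
    AddEquiv.toMultiplicative (ZMod.ringEquivCongr (hall i)).toAddEquiv
  exact ⟨(e.trans (MulEquiv.piCongrRight c)).trans (MulEquiv.arrowCongr (Fintype.equivFinOfCardEq hk) (MulEquiv.refl _))⟩

end Cfsg.Agent.Chev.HomSylow
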