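import Cfsg.Agent.Lib.Chev.HomSylow.Bound
import Cfsg.Agent.Lib.Chev.HomSylow.WeylD4
import Cfsg.Agent.Lib.Chev.CyclTorus.Weyl
import Cfsg.Agent.Lib.Chev.AllC

/-!
Bounds for the multiplicity of a primitive root of unity as an eigenvalue of a Weyl element, by the number of
degrees it divides.
-/

set_option autoImplicit false
set_option linter.unusedSectionVars false
set_option maxRecDepth 20000
set_option maxHeartbeats 800000

namespace Cfsg.Agent.Chev.HomSylow

open Polynomial Cfsg.Lie Cfsg.Agent.Chev Cfsg.Agent.Chev.CyclTorus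
open scoped Matrix

theorem cyclo_four : cyclotomic 4 ℤ = Polynomial.X ^ 2 + 1 := by
  rw [show (4 : ℕ) = 2 ^ (1 + 1) from rfl, cyclotomic_prime_pow_eq_geom_sum Nat.prime_two]
  simp [Finset.sum_range_succ, add_comm]

/-- The number of degrees divisible by `e`. -/
def aInv (ds : List ℕ) (e : ℕ) : ℕ := (ds.filter fun d => decide (e ∣ d)).length

/-- The multiplicity bound, given the two consequences of a large multiplicity. -/
def Good (P : Pk) (ds : List ℕ) : Prop :=
  ∀ l, WordOk P l → ∀ e k : ℕ, 0 < e → (∃ d ∈ ds, e ∣ d) → k * e.totient ≤ P.rank →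
    (0 < k → k * e.totient = P.rank → aeval (WM P l) (cyclotomic e ℤ) = 0) →
    (0 < k → k * e.totient + 1 = P.rank → ∃ c : ℤ, (c = 1 ∨ c = -1) ∧ ¬ (cyclotomic e ℤ).eval c = 0 ∧
      aeval (WM P l) (cyclotomic e ℤ * (Polynomial.X - C c)) = 0 ∧
      (WM P l).charpoly = cyclotomic e ℤ ^ k * (Polynomial.X - C c)) →
    k ≤ aInv ds e

/-- The numerical test, up to exceptions. -/
def ckBound (rank : ℕ) (ds exc : List ℕ) : Bool :=
  (ds.all fun d => Nat.blt 0 d && Nat.blt d 31) && (List.range 31).all fun e =>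
    Nat.beq e 0 || exc.contains e || !(ds.any fun d => decide (e ∣ d)) ||
      Nat.blt rank ((aInv ds e + 1) * e.totient)

theorem bound_or_exc {rank : ℕ} {ds exc : List ℕ} (hck : ckBound rank ds exc = true) {e k : ℕ} (he : 0 < e)
    (hd : ∃ d ∈ ds, e ∣ d) (hk : k * e.totient ≤ rank) : k ≤ aInv ds e ∨ e ∈ exc := by
  obtain ⟨d, hd, hed⟩ := hd
  simp only [ckBound, Bool.and_eq_true, List.all_eq_true, Nat.blt_eq] at hck
  have he31 : e < 31 := lt_of_le_of_lt (Nat.le_of_dvd (hck.1 d hd).1 hed) (hck.1 d hd).2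
  have h1 := hck.2 e (List.mem_range.2 he31)
  simp only [Bool.or_eq_true, List.contains_iff_mem, Bool.not_eq_true', Nat.blt_eq] at h1
  rcases h1 with ((h1 | h1) | h1) | h1
  · have := Nat.eq_of_beq_eq_true h1
    omega
  · exact Or.inr h1
  · rw [List.any_eq_false] at h1
    exact absurd (by simpa using hed) (h1 d hd)
  · refine Or.inl ?_
    by_contra hlt
    have := Nat.mul_le_mul_right e.totient (show aInv ds e + 1 ≤ k by omega)
    omega

theorem good_of_ck {P : Pk} {ds : List ℕ} (hck : ckBound P.rank ds [] = true) : Good P ds :=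
  fun _ _ _ _ he hd hk _ _ => (bound_or_exc hck he hd hk).elim id fun h => absurd h List.not_mem_nil

theorem good_G2 : Good G2.pk [2, 6] := good_of_ck (by decide +kernel)
theorem good_B2 : Good B2.pk [2, 4] := good_of_ck (by decide +kernel)
theorem good_F4 : Good F4.pk [2, 6, 8, 12] := good_of_ck (by decide +kernel)
theorem good_E8 : Good E8.pk [2, 8, 12, 14, 18, 20, 24, 30] := good_of_ck (by decide +kernel)

/-- The matrix of Cartan integers. -/
def cartanM (P : Pk) : Matrix (Fin P.rank) (Fin P.rank) ℤ := Matrix.of fun i j => P.A i (P.sim j)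

/-- The Cartan form in simple-root coordinates. -/
def cform (P : Pk) (x y : Fin P.rank → ℤ) : ℤ := x ⬝ᵥ (cartanM P *ᵥ y)

variable {D : ChevalleyDatum} {P : Pk} (h : Ok D P)

include h

theorem WM_form (hco : ∀ r < P.nroots, ∀ i < P.rank, P.co r i = P.rv r i) {l : List ℕ} (hl : WordOk P l) :
    WM P l * cartanM P * (WM P l)ᵀ = cartanM P := by
  have key : ∀ a < P.nroots, ∀ b < P.nroots,
      ∑ j : Fin P.rank, (∑ i : Fin P.rank, P.rv a i * P.A i (P.sim j)) * P.rv b j = P.pair a b := by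
    intro a ha b hb
    rw [Pk.pair, ← List.sum_toFinset _ List.nodup_range,
      show (List.range P.rank).toFinset = Finset.range P.rank by ext; simp, ← Fin.sum_univ_eq_sum_range]
    simp_rw [Finset.sum_mul]
    rw [Finset.sum_comm]
    refine Finset.sum_congr rfl fun i _ => ?_
    rw [hco a ha i i.isLt, h.A_eq_sum hb i.isLt, ← Fin.sum_univ_eq_sum_range, Finset.mul_sum]
    exact Finset.sum_congr rfl fun j _ => by ring
  ext k k'
  rw [Matrix.mul_apply]
  simp only [Matrix.mul_apply, Matrix.transpose_apply]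
  refine (key _ (h.wl_lt l hl _ (h.sim_lt k.isLt)) _ (h.wl_lt l hl _ (h.sim_lt k'.isLt))).trans ?_
  rw [h.pair_wl l hl _ (h.sim_lt k.isLt) _ (h.sim_lt k'.isLt), h.pair_sim k.isLt]
  rfl

omit h in
theorem cform_vecMul {M : Matrix (Fin P.rank) (Fin P.rank) ℤ} (hM : M * cartanM P * Mᵀ = cartanM P)
    (x y : Fin P.rank → ℤ) : cform P (x ᵥ* M) (y ᵥ* M) = cform P x y := by
  rw [cform, cform, ← Matrix.mulVec_transpose M y, ← Matrix.dotProduct_mulVec, Matrix.mulVec_mulVec,
    Matrix.mulVec_mulVec, hM]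

omit h in
theorem cform_smul_left (c : ℤ) (x y : Fin P.rank → ℤ) : cform P (c • x) y = c * cform P x y := by
  rw [cform, cform, smul_dotProduct, smul_eq_mul]

omit h in
theorem cform_add_left (x y z : Fin P.rank → ℤ) : cform P (x + y) z = cform P x z + cform P y z := by
  rw [cform, cform, cform, add_dotProduct]

omit h in
theorem cform_symm (hC : (cartanM P)ᵀ = cartanM P) (x y : Fin P.rank → ℤ) : cform P x y = cform P y x := by
  rw [cform, cform, Matrix.dotProduct_mulVec, dotProduct_comm, ← Matrix.mulVec_transpose, hC]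

omit h in
/-- On a line fixed by an isometry the projection is determined by the form. -/
theorem line_coord {N : Matrix (Fin P.rank) (Fin P.rank) ℤ} (hN : N * cartanM P * Nᵀ = cartanM P)
    {d : Fin P.rank → ℤ} (hd : d ᵥ* N = d) (x : Fin P.rank → ℤ) {t : ℚ}
    (ht : ∀ i, (((x ᵥ* (N + 1)) i : ℤ) : ℚ) = t * ((d i : ℤ) : ℚ)) :
    (∀ i, cform P d d * (x ᵥ* (N + 1)) i = 2 * cform P x d * d i) := by
  have h1 : cform P (x ᵥ* (N + 1)) d = 2 * cform P x d := by
    rw [Matrix.vecMul_add, Matrix.vecMul_one, cform_add_left]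
    nth_rewrite 1 [← hd]
    rw [cform_vecMul hN, two_mul]
  have h2 : ((cform P (x ᵥ* (N + 1)) d : ℤ) : ℚ) = t * (cform P d d : ℤ) := by
    simp only [cform, dotProduct, Int.cast_sum, Int.cast_mul, Finset.mul_sum]
    exact Finset.sum_congr rfl fun i _ => by rw [ht, mul_assoc]
  rw [h1] at h2
  intro i
  have : ((cform P d d * (x ᵥ* (N + 1)) i : ℤ) : ℚ) = ((2 * cform P x d * d i : ℤ) : ℚ) := by
    rw [Int.cast_mul, Int.cast_mul, h2, ht]
    ring
  exact_mod_cast this

theorem WM_sq_row {l : List ℕ} (hl : WordOk P l) (k j : Fin P.rank) :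
    (WM P l ^ 2) k j = P.rv (wl P l (wl P l (P.sim k))) j := by
  rw [← WM_pw h hl]
  show P.rv (wl P (pw 2 l) (P.sim k)) j = _
  rw [show pw 2 l = l ++ l by simp [pw, List.replicate_succ], wl_append]

theorem one_row (k j : Fin P.rank) : (1 : Matrix (Fin P.rank) (Fin P.rank) ℤ) k j = P.rv (P.sim k) j := by
  rw [← WM_nil h]
  rfl

omit h

theorem rv_eq_co_E6 : ∀ r < E6.pk.nroots, ∀ i < E6.pk.rank, E6.pk.co r i = E6.pk.rv r i := by decide +kernel

theorem rv_eq_co_E7 : ∀ r < E7.pk.nroots, ∀ i < E7.pk.rank, E7.pk.co r i = E7.pk.rv r i := by decide +kernel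

theorem cartanM_symm_E7 : (cartanM E7.pk)ᵀ = cartanM E7.pk := by decide +kernel

/-- A minuscule vector. -/
def uE6 : Fin E6.pk.rank → ℤ := fun i => [1, 0, 2, 0, 1, 2].getD i 0

theorem uE6_step : ∀ i < E6.pk.rank, (fun j => ((uE6 j : ℤ) : ZMod 3)) ᵥ*
    (WM E6.pk [i]).map (Int.castRingHom (ZMod 3)) = fun j => ((uE6 j : ℤ) : ZMod 3) := by
  decide +kernel

theorem uE6_fix : ∀ l, WordOk E6.pk l → (fun j => ((uE6 j : ℤ) : ZMod 3)) ᵥ*
    (WM E6.pk l).map (Int.castRingHom (ZMod 3)) = fun j => ((uE6 j : ℤ) : ZMod 3)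
  | [], _ => by rw [WM_nil E6.ok, Matrix.map_one _ (map_zero _) (map_one _), Matrix.vecMul_one]
  | i :: l, hl => by
    have hi : WordOk E6.pk [i] := by simpa [WordOk] using hl i (List.mem_cons_self ..)
    rw [show i :: l = [i] ++ l from rfl, WM_append E6.ok hi hl.tail, Matrix.map_mul, ← Matrix.vecMul_vecMul,
      uE6_fix l hl.tail, uE6_step i (hl i (List.mem_cons_self ..))]

theorem uE6_table : ∀ j : Fin E6.pk.rank, ∀ g : Fin E6.pk.nroots,
    (∀ i : Fin E6.pk.rank, E6.pk.rv (E6.pk.sim j) i + E6.pk.rv g i = 0) ∨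
      ∃ i : Fin E6.pk.rank,
        ¬ (3 * cform E6.pk (fun i => E6.pk.rv (E6.pk.sim j) i + E6.pk.rv g i)
              (fun i => E6.pk.rv (E6.pk.sim j) i + E6.pk.rv g i) ∣
            2 * cform E6.pk uE6 (fun i => E6.pk.rv (E6.pk.sim j) i + E6.pk.rv g i) *
                (E6.pk.rv (E6.pk.sim j) i + E6.pk.rv g i) -
              2 * uE6 i * cform E6.pk (fun i => E6.pk.rv (E6.pk.sim j) i + E6.pk.rv g i)
                (fun i => E6.pk.rv (E6.pk.sim j) i + E6.pk.rv g i)) := by
  decide +kernel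

theorem E7_table : ∀ j : Fin E7.pk.rank, ∀ g : Fin E7.pk.nroots,
    (∀ i : Fin E7.pk.rank, E7.pk.rv (E7.pk.sim j) i + E7.pk.rv g i = 0) ∨
      ∃ k : Fin E7.pk.rank,
        ¬ (cform E7.pk (fun i => E7.pk.rv (E7.pk.sim j) i + E7.pk.rv g i)
              (fun i => E7.pk.rv (E7.pk.sim j) i + E7.pk.rv g i) ∣
            cform E7.pk (Pi.single k 1) (fun i => E7.pk.rv (E7.pk.sim j) i + E7.pk.rv g i) ^ 2) := by
  decide +kernel

theorem E6_mod {l : List ℕ} (hl : WordOk E6.pk l) (i : Fin E6.pk.rank) :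
    ((((uE6 ᵥ* WM E6.pk l) i : ℤ)) : ZMod 3) = (uE6 i : ℤ) := by
  have := congrFun (uE6_fix l hl) i
  rw [← this, show (fun j => ((uE6 j : ℤ) : ZMod 3)) = Int.castRingHom (ZMod 3) ∘ uE6 from rfl,
    ← RingHom.map_vecMul]
  rfl

theorem E6_aeval {l : List ℕ} (hl : WordOk E6.pk l) {e : ℕ} (he : e = 2 ∨ e = 4 ∨ e = 6) :
    aeval (WM E6.pk l) (cyclotomic e ℤ) ≠ 0 := by
  intro h0
  have hfix := uE6_fix l hl
  have h1 := congrArg (fun M : Matrix (Fin E6.pk.rank) (Fin E6.pk.rank) ℤ =>
    (fun j => ((uE6 j : ℤ) : ZMod 3)) ᵥ* (Int.castRingHom (ZMod 3)).mapMatrix M) h0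
  rw [map_zero, Matrix.vecMul_zero] at h1
  set φ := (Int.castRingHom (ZMod 3)).mapMatrix (m := Fin E6.pk.rank) with hφ
  set u := (fun j => ((uE6 j : ℤ) : ZMod 3))
  have hf : u ᵥ* φ (WM E6.pk l) = u := hfix
  have hf2 : u ᵥ* φ (WM E6.pk l ^ 2) = u := by rw [pow_two, map_mul, ← Matrix.vecMul_vecMul, hf, hf]
  have hu : u ⟨0, by decide⟩ = 1 := by decide +kernel
  rcases he with rfl | rfl | rfl
  · simp only [cyclotomic_two, map_add, aeval_X, map_one, Matrix.vecMul_add, hf, Matrix.vecMul_one] at h1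
    have := congrFun h1 ⟨0, by decide⟩
    rw [Pi.add_apply, hu] at this
    exact absurd this (by decide)
  · simp only [cyclo_four, map_add, map_pow, aeval_X, map_one, Matrix.vecMul_add] at h1
    rw [← map_pow, hf2, Matrix.vecMul_one] at h1
    have := congrFun h1 ⟨0, by decide⟩
    rw [Pi.add_apply, hu] at this
    exact absurd this (by decide)
  · simp only [cyclotomic_six, map_add, map_sub, map_pow, aeval_X, map_one, Matrix.vecMul_add,
      Matrix.vecMul_sub] at h1
    rw [← map_pow, hf2, Matrix.vecMul_one, hf] at h1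
    have := congrFun h1 ⟨0, by decide⟩
    rw [Pi.add_apply, Pi.sub_apply, hu] at this
    exact absurd this (by decide)

theorem good_E6 : Good E6.pk [2, 5, 6, 8, 9, 12] := by
  intro l hl e k he hd hk hfull hline
  rcases bound_or_exc (exc := [2, 4, 6]) (by decide +kernel) he hd hk with h | h
  · exact h
  by_contra hlt
  have he' : e = 2 ∨ e = 4 ∨ e = 6 := by simpa using h
  have hne := E6_aeval hl he'
  rcases he' with rfl | rfl | rfl
  · rw [show Nat.totient 2 = 1 by decide, mul_one] at hk hfull hline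
    rw [show aInv [2, 5, 6, 8, 9, 12] 2 = 4 by decide] at hlt
    change k ≤ 6 at hk
    obtain rfl | rfl : k = 5 ∨ k = 6 := by omega
    · obtain ⟨c, hc, hev, hann, hchar⟩ := hline (by omega) rfl
      obtain rfl : c = 1 := hc.resolve_right fun e => hev (by simp [e, cyclotomic_two])
      simp only [cyclotomic_two] at hann hchar hne hev
      set M := WM E6.pk l with hM
      have hD : aeval M (Polynomial.X + 1 : ℤ[X]) = M + 1 := by simp
      have hM1 : (M + 1) * M = M + 1 := by
        rw [map_mul, hD] at hann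
        simp only [map_sub, aeval_X, aeval_C, map_one, mul_sub, mul_one, sub_eq_zero] at hann
        exact hann
      rw [hD] at hne
      obtain ⟨j, hj⟩ : ∃ j, (M + 1) j ≠ 0 := by
        by_contra hall
        simp only [not_exists, not_not] at hall
        exact hne (funext hall)
      set g : Fin E6.pk.nroots := ⟨wl E6.pk l (E6.pk.sim j), E6.ok.wl_lt l hl _ (E6.ok.sim_lt j.isLt)⟩
      set d : Fin E6.pk.rank → ℤ := fun i => E6.pk.rv (E6.pk.sim j) i + E6.pk.rv g i with hd'
      have hdrow : (M + 1) j = d := funext fun i => by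
        rw [Matrix.add_apply, one_row E6.ok, add_comm]
        rfl
      have hdM : d ᵥ* M = d := by
        rw [← hdrow]
        funext i
        exact congrFun (congrFun hM1 j) i
      obtain ⟨t, ht⟩ := image_line hev hann hchar uE6 (Pi.single j 1) (by
        rw [hD, Matrix.single_one_vecMul]; exact hj)
      rw [hD, Matrix.single_one_vecMul] at ht
      rcases uE6_table j g with h0 | ⟨i, hi⟩
      · exact hj (hdrow.trans (funext h0))
      · refine hi ?_
        have e1 := line_coord (WM_form E6.ok rv_eq_co_E6 hl) hdM uE6 (t := t) (fun i => by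
          have := ht i; rwa [show Matrix.row (M + 1) j i = d i from congrFun hdrow i] at this) i
        have e2 : (3 : ℤ) ∣ (uE6 ᵥ* (M + 1)) i - 2 * uE6 i := by
          refine (ZMod.intCast_zmod_eq_zero_iff_dvd _ 3).1 ?_
          rw [Matrix.vecMul_add, Matrix.vecMul_one, Pi.add_apply,
            Int.cast_sub, Int.cast_add, E6_mod hl, Int.cast_mul]
          norm_num
          ring
        obtain ⟨s, hs⟩ := e2
        exact ⟨s, by linear_combination -e1 + cform E6.pk d d * hs⟩
    · exact hne (hfull (by omega) rfl)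
  · rw [show Nat.totient 4 = 2 by decide] at hk hfull
    rw [show aInv [2, 5, 6, 8, 9, 12] 4 = 2 by decide] at hlt
    change k * 2 ≤ 6 at hk
    exact hne (hfull (by omega) (show k * 2 = 6 by omega))
  · rw [show Nat.totient 6 = 2 by decide] at hk hfull
    rw [show aInv [2, 5, 6, 8, 9, 12] 6 = 2 by decide] at hlt
    change k * 2 ≤ 6 at hk
    exact hne (hfull (by omega) (show k * 2 = 6 by omega))

theorem good_E7 : Good E7.pk [2, 6, 8, 10, 12, 14, 18] := by
  intro l hl e k he hd hk hfull hline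
  rcases bound_or_exc (exc := [4]) (by decide +kernel) he hd hk with h | h
  · exact h
  obtain rfl : e = 4 := by simpa using h
  by_contra hlt
  rw [show Nat.totient 4 = 2 by decide] at hk hline
  rw [show aInv [2, 6, 8, 10, 12, 14, 18] 4 = 2 by decide] at hlt
  change k * 2 ≤ 7 at hk
  obtain rfl : k = 3 := by omega
  obtain ⟨c, hc, hev, hann, hchar⟩ := hline (by omega) rfl
  rw [cyclo_four] at hev hann hchar
  set M := WM E7.pk l with hM
  have hD : aeval M (Polynomial.X ^ 2 + 1 : ℤ[X]) = M ^ 2 + 1 := by simp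
  have hann' : (M ^ 2 + 1) * M = c • (M ^ 2 + 1) := by
    rw [map_mul, hD] at hann
    simp only [map_sub, aeval_X, aeval_C, mul_sub, sub_eq_zero, Algebra.algebraMap_eq_smul_one,
      mul_smul_comm, mul_one] at hann
    exact hann
  obtain ⟨j, hj⟩ : ∃ j, (M ^ 2 + 1 : Matrix (Fin E7.pk.rank) (Fin E7.pk.rank) ℤ) j ≠ 0 := by
    by_contra hall
    simp only [not_exists, not_not] at hall
    have h0 : M ^ 2 = -1 := eq_neg_of_add_eq_zero_left (funext hall)
    have h1 := congrArg Matrix.det h0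
    rw [Matrix.det_pow, Matrix.det_neg, Matrix.det_one, mul_one, Fintype.card_fin,
      show (-1 : ℤ) ^ E7.pk.rank = -1 from rfl] at h1
    have := sq_nonneg M.det
    rw [h1] at this
    norm_num at this
  set g : Fin E7.pk.nroots :=
    ⟨wl E7.pk l (wl E7.pk l (E7.pk.sim j)), E7.ok.wl_lt l hl _ (E7.ok.wl_lt l hl _ (E7.ok.sim_lt j.isLt))⟩
  set d : Fin E7.pk.rank → ℤ := fun i => E7.pk.rv (E7.pk.sim j) i + E7.pk.rv g i with hd'
  have hdrow : (M ^ 2 + 1 : Matrix (Fin E7.pk.rank) (Fin E7.pk.rank) ℤ) j = d := funext fun i => by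
    rw [Matrix.add_apply, one_row E7.ok, WM_sq_row E7.ok hl, add_comm]
  have hdM : d ᵥ* M = c • d := by
    rw [← hdrow]
    funext i
    exact congrFun (congrFun hann' j) i
  have hc2 : c * c = 1 := by rcases hc with rfl | rfl <;> norm_num
  have hdM2 : d ᵥ* (M ^ 2) = d := by
    rw [pow_two, ← Matrix.vecMul_vecMul, hdM, Matrix.smul_vecMul, hdM, smul_smul, hc2, one_smul]
  have hf := WM_form E7.ok rv_eq_co_E7 hl
  have hf2 : M ^ 2 * cartanM E7.pk * (M ^ 2)ᵀ = cartanM E7.pk := by
    rw [pow_two, Matrix.transpose_mul, show M * M * cartanM E7.pk * (Mᵀ * Mᵀ) =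
      M * (M * cartanM E7.pk * Mᵀ) * Mᵀ by simp only [mul_assoc], hf, hf]
  rcases E7_table j g with h0 | ⟨i, hi⟩
  · exact hj (hdrow.trans (funext h0))
  refine hi ?_
  set x : Fin E7.pk.rank → ℤ := Pi.single i 1
  obtain ⟨t, ht⟩ := image_line hev hann hchar x (Pi.single j 1) (by
    rw [hD, Matrix.single_one_vecMul]; exact hj)
  rw [hD] at ht
  have hrow : (Pi.single j 1 : Fin E7.pk.rank → ℤ) ᵥ* (M ^ 2 + 1) = d := by
    rw [Matrix.single_one_vecMul]; exact hdrow
  rw [hrow] at ht
  have e1 := line_coord hf2 hdM2 x (t := t) ht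
  have e2 : cform E7.pk d d * cform E7.pk (x ᵥ* (M ^ 2 + 1)) (x ᵥ* M) =
      2 * cform E7.pk x d * cform E7.pk d (x ᵥ* M) := by
    simp only [cform, dotProduct, Finset.mul_sum]
    refine Finset.sum_congr rfl fun k _ => ?_
    have := e1 k
    simp only [cform, dotProduct] at this
    rw [← mul_assoc, this, mul_assoc, Finset.mul_sum]
  have e3 : cform E7.pk (x ᵥ* (M ^ 2 + 1)) (x ᵥ* M) = 2 * cform E7.pk x (x ᵥ* M) := by
    rw [Matrix.vecMul_add, Matrix.vecMul_one, cform_add_left, pow_two, ← Matrix.vecMul_vecMul, cform_vecMul hf,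
      cform_symm cartanM_symm_E7 (x ᵥ* M) x, two_mul]
  have e4 : cform E7.pk d (x ᵥ* M) = c * cform E7.pk x d := by
    have : d = c • (d ᵥ* M) := by rw [hdM, smul_smul, hc2, one_smul]
    conv_lhs => rw [this]
    rw [cform_smul_left, cform_vecMul hf, cform_symm cartanM_symm_E7 d x]
  rw [e3, e4] at e2
  have e5 : cform E7.pk d d * cform E7.pk x (x ᵥ* M) = c * cform E7.pk x d ^ 2 := by linarith
  exact ⟨c * cform E7.pk x (x ᵥ* M), by linear_combination (-c) * e5 - cform E7.pk x d ^ 2 * hc2⟩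

theorem D4_aeval {l : List ℕ} (hl : WordOk D4.pk l) {e : ℕ} (he : e = 3 ∨ e = 6) :
    aeval (WM D4.pk l) (cyclotomic e ℤ) ≠ 0 := by
  intro h0
  have key : ∀ s : ℤ, (s = 1 ∨ s = -1) → WM D4.pk l ^ 2 + s • WM D4.pk l + 1 = 0 → False := by
    intro s hs hz
    obtain ⟨j, hj, i, hi, hne⟩ := WeylD4.wl_live hl (fun r hr => D4.ok.wl_lt l hl r hr) hs
    refine hne ?_
    have := congrFun (congrFun hz ⟨j, hj⟩) ⟨i, hi⟩
    rw [Matrix.add_apply, Matrix.add_apply, Matrix.smul_apply, WM_sq_row D4.ok hl, one_row D4.ok, smul_eq_mul,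
      Matrix.zero_apply] at this
    exact this
  rcases he with rfl | rfl
  · refine key 1 (Or.inl rfl) ?_
    simpa [cyclotomic_three] using h0
  · refine key (-1) (Or.inr rfl) ?_
    simpa [cyclotomic_six, sub_eq_add_neg] using h0

theorem good_D4 : Good D4.pk [2, 4, 4, 6] := by
  intro l hl e k he hd hk hfull _
  rcases bound_or_exc (exc := [3, 6]) (by decide +kernel) he hd hk with h | h
  · exact h
  by_contra hlt
  have he' : e = 3 ∨ e = 6 := by simpa using h
  refine D4_aeval hl he' (hfull ?_ ?_)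
  all_goals
    rcases he' with rfl | rfl
  all_goals
    simp only [show aInv [2, 4, 4, 6] 3 = 1 by decide, show aInv [2, 4, 4, 6] 6 = 1 by decide] at hlt
    simp only [show Nat.totient 3 = 2 by decide, show Nat.totient 6 = 2 by decide] at hk ⊢
    change k * 2 ≤ 4 at hk
    first | omega | (show k * 2 = 4; omega)

end Cfsg.Agent.Chev.HomSylow
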