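import Cfsg.Agent.Lib.Chev.CyclTorus.Main
import Cfsg.Agent.Lib.Chev.HomSylow.Abelian
import Cfsg.Agent.Lib.Chev.HomSylow.Exc
import Cfsg.Agent.Lib.Chev.Coxeter
import Mathlib.FieldTheory.Finite.Extension
import Mathlib.NumberTheory.Padics.PadicVal.Basic

/-!
Sylow subgroups for primes not dividing the order of the Weyl group are homocyclic: over an extension field such
a subgroup lies in a split torus, where its elements of order `r` are eigenvectors of one Weyl element.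
-/

set_option autoImplicit false
set_option linter.unusedSectionVars false
set_option maxHeartbeats 1600000

namespace Cfsg.Agent.Chev.HomSylow

open Cfsg.Lie Cfsg.Agent.Chev Cfsg.Agent.Chev.CyclTorus
open scoped Matrix

section Num

variable {r q : ℕ} [hrp : Fact r.Prime]

theorem orderOf_q_pos (hrq : ¬ r ∣ q) : 0 < orderOf (q : ZMod r) ∧ orderOf (q : ZMod r) ∣ r - 1 := by
  have hq0 : (q : ZMod r) ≠ 0 := fun e => hrq ((ZMod.natCast_eq_zero_iff _ _).1 e)
  refine ⟨?_, ZMod.orderOf_dvd_card_sub_one hq0⟩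
  exact orderOf_pos_iff.2 (isOfFinOrder_iff_pow_eq_one.2
    ⟨r - 1, by have := hrp.out.two_le; omega, ZMod.pow_card_sub_one_eq_one hq0⟩)

theorem not_dvd_orderOf (hrq : ¬ r ∣ q) : ¬ r ∣ orderOf (q : ZMod r) := fun hd => by
  have h1 := Nat.le_of_dvd (orderOf_q_pos hrq).1 hd
  have h2 := Nat.le_of_dvd (by have := hrp.out.two_le; omega) (orderOf_q_pos hrq).2
  have := hrp.out.two_le
  omega

theorem dvd_pow_sub_one_iff (hq : 1 ≤ q) {d : ℕ} : r ∣ q ^ d - 1 ↔ orderOf (q : ZMod r) ∣ d := by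
  rw [← ZMod.natCast_eq_zero_iff, Nat.cast_sub (Nat.one_le_pow _ _ hq), Nat.cast_pow, Nat.cast_one, sub_eq_zero,
    orderOf_dvd_iff_pow_eq_one]

theorem val_pow_sub_one (hq : 2 ≤ q) {d : ℕ} (hd : 0 < d) (hed : orderOf (q : ZMod r) ∣ d) (hrd : ¬ r ∣ d) :
    padicValNat r (q ^ d - 1) =
      padicValNat r ((Polynomial.cyclotomic (orderOf (q : ZMod r)) ℤ).eval (q : ℤ)).natAbs := by
  classical
  set e := orderOf (q : ZMod r) with he
  have h1 : ((q ^ d - 1 : ℕ) : ℤ) = ∏ x ∈ d.divisors, (Polynomial.cyclotomic x ℤ).eval (q : ℤ) := by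
    rw [← Polynomial.eval_prod, Polynomial.prod_cyclotomic_eq_X_pow_sub_one hd, Nat.cast_sub (Nat.one_le_pow _ _ (by omega))]
    simp
  rw [← Finset.mul_prod_erase _ _ (Nat.mem_divisors.2 ⟨hed, hd.ne'⟩)] at h1
  have h2 : ∀ x ∈ d.divisors.erase e, ¬ (r : ℤ) ∣ (Polynomial.cyclotomic x ℤ).eval (q : ℤ) := by
    intro x hx hdvd
    obtain ⟨hne, hx⟩ := Finset.mem_erase.1 hx
    have hxd := Nat.dvd_of_mem_divisors hx
    haveI : NeZero (x : ZMod r) := ⟨fun e0 => hrd (((ZMod.natCast_eq_zero_iff _ _).1 e0).trans hxd)⟩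
    have hprim : IsPrimitiveRoot (q : ZMod r) x := by
      rw [← Polynomial.isRoot_cyclotomic_iff, ← Polynomial.map_cyclotomic_int x (ZMod r), Polynomial.IsRoot,
        show (q : ZMod r) = Int.castRingHom (ZMod r) (q : ℤ) by simp, Polynomial.eval_map, Polynomial.eval₂_at_apply]
      exact (ZMod.intCast_zmod_eq_zero_iff_dvd _ _).2 hdvd
    exact hne (hprim.eq_orderOf.trans he.symm)
  have h3 : ¬ (r : ℤ) ∣ ∏ x ∈ d.divisors.erase e, (Polynomial.cyclotomic x ℤ).eval (q : ℤ) := fun hdvd => by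
    obtain ⟨x, hx, hx'⟩ := (Nat.prime_iff_prime_int.1 hrp.out).exists_mem_finset_dvd hdvd
    exact h2 x hx hx'
  have h4 := congrArg Int.natAbs h1
  rw [Int.natAbs_natCast, Int.natAbs_mul] at h4
  have hA : q ^ d - 1 ≠ 0 := by
    have := Nat.one_lt_pow hd.ne' (show 1 < q by omega)
    omega
  rw [h4] at hA
  rw [h4, padicValNat.mul (left_ne_zero_of_mul hA) (right_ne_zero_of_mul hA),
    padicValNat.eq_zero_of_not_dvd (fun hdvd => h3 (Int.natCast_dvd.2 hdvd)), add_zero]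

theorem val_prod (hq : 2 ≤ q) : ∀ l : List ℕ, (∀ d ∈ l, 0 < d ∧ ¬ r ∣ d) →
    (l.map fun d => q ^ d - 1).prod ≠ 0 ∧ padicValNat r (l.map fun d => q ^ d - 1).prod =
      padicValNat r ((Polynomial.cyclotomic (orderOf (q : ZMod r)) ℤ).eval (q : ℤ)).natAbs *
        (l.filter fun d => decide (orderOf (q : ZMod r) ∣ d)).length
  | [], _ => by simp
  | d :: l, hl => by
    obtain ⟨h0, ih⟩ := val_prod hq l fun x hx => hl x (List.mem_cons_of_mem _ hx)
    obtain ⟨hd, hrd⟩ := hl d List.mem_cons_self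
    have hd0 : q ^ d - 1 ≠ 0 := by
      have := Nat.one_lt_pow hd.ne' (show 1 < q by omega)
      omega
    rw [List.map_cons, List.prod_cons]
    refine ⟨mul_ne_zero hd0 h0, ?_⟩
    rw [padicValNat.mul hd0 h0, ih]
    by_cases hed : orderOf (q : ZMod r) ∣ d
    · rw [List.filter_cons_of_pos (by simpa using hed), List.length_cons, val_pow_sub_one hq hd hed hrd]
      ring
    · rw [List.filter_cons_of_neg (by simpa using hed),
        padicValNat.eq_zero_of_not_dvd (fun e => hed ((dvd_pow_sub_one_iff (by omega)).1 e)), zero_add]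

theorem pev_one_pgeom : ∀ ds : List ℕ, pev 1 (pgeom ds) = ds.prod
  | [] => rfl
  | d :: ds => by
    have ih := pev_one_pgeom ds
    simp only [pgeom, List.foldr_cons] at ih ⊢
    simp [pev_pmul, pev_replicate, ih]

end Num

variable {D : ChevalleyDatum} {P : Pk} (h : Ok D P) {L : Type*} [Field L]
include h

/-- The Weyl part of a conjugating element works for every pair of conjugate torus elements. -/
theorem weyl_conj {b u t t' : GL D.Idx L} {l : List ℕ} (hl : WordOk P l) (hb : b ∈ D.borelSubgroup L)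
    (hu : u ∈ h.genR (F := L) (negS P l)) (ht : t ∈ D.diagonalSubgroup L) (ht' : t' ∈ D.diagonalSubgroup L)
    (e : b * h.nW l * u * t' * (b * h.nW l * u)⁻¹ = t) : h.nW l * t' * (h.nW l)⁻¹ = t := by
  set n := h.nW (F := L) l
  have hn0 : n * t' * n⁻¹ ∈ D.diagonalSubgroup L := (Subgroup.mem_normalizer_iff.1 (h.nW_normalizer l hl) t').1 ht'
  have key : ∀ x ∈ h.genR (F := L) (negS P l), t' * x * t'⁻¹ ∈ h.genR (negS P l) := by
    obtain ⟨c, rfl⟩ := h.mem_diagonal_iff.1 ht'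
    intro x hx
    induction hx using Subgroup.closure_induction with
    | mem x hx =>
      obtain ⟨r, s, hr, rfl⟩ := hx
      rw [h.hHom_xG c (P.isPos_iff.1 hr.1).2]
      exact h.xG_mem_genR hr _
    | one => simpa using one_mem _
    | mul x y hx hy ihx ihy =>
      rw [show h.hHom c * (x * y) * (h.hHom c)⁻¹ = (h.hHom c * x * (h.hHom c)⁻¹) * (h.hHom c * y * (h.hHom c)⁻¹) by
        group]
      exact mul_mem ihx ihy
    | inv x hx ih =>
      rw [show h.hHom c * x⁻¹ * (h.hHom c)⁻¹ = (h.hHom c * x * (h.hHom c)⁻¹)⁻¹ by group]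
      exact inv_mem ih
  have hb' : t * b * (n * t' * n⁻¹)⁻¹ ∈ D.borelSubgroup L :=
    mul_mem (mul_mem (Subgroup.mem_sup_right ht) hb) (inv_mem (Subgroup.mem_sup_right hn0))
  have e1 : b * (n * 1) * u = t * b * (n * t' * n⁻¹)⁻¹ * (n * 1) * (t' * u * t'⁻¹) := by
    rw [show t * b * (n * t' * n⁻¹)⁻¹ * (n * 1) * (t' * u * t'⁻¹) = t * (b * n * u) * t'⁻¹ by group, mul_one,
      eq_mul_inv_iff_mul_eq, ← mul_inv_eq_iff_eq_mul.1 e]
  obtain ⟨eb, -⟩ := h.bruhat_factor hl (one_mem _) hb hb' hu (key u hu) e1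
  obtain ⟨v, hv, d, hd, rfl⟩ := h.mem_borel hb
  have hdc : t * d = d * t := by
    obtain ⟨cd, rfl⟩ := h.mem_diagonal_iff.1 hd
    obtain ⟨ct, rfl⟩ := h.mem_diagonal_iff.1 ht
    rw [← map_mul, ← map_mul, mul_comm]
  have e2 : (t * v * t⁻¹)⁻¹ * v = d * (t * (n * t' * n⁻¹)⁻¹) * d⁻¹ := by
    have : v * d = t * v * t⁻¹ * (d * (t * (n * t' * n⁻¹)⁻¹)) := by
      rw [← mul_assoc d, ← hdc]
      conv_lhs => rw [eb]
      group
    rw [eq_mul_inv_iff_mul_eq, mul_assoc, this]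
    group
  have h0 : (t * v * t⁻¹)⁻¹ * v ∈ D.posUnipotent L ⊓ D.diagonalSubgroup L :=
    Subgroup.mem_inf.2 ⟨mul_mem (inv_mem ((Subgroup.mem_normalizer_iff.1 (h.diagonal_normalizes ht) _).1 hv)) hv,
      e2 ▸ mul_mem (mul_mem hd (mul_mem ht (inv_mem hn0))) (inv_mem hd)⟩
  rw [h.pos_inf_diagonal, Subgroup.mem_bot] at h0
  have h3 := e2.symm.trans h0
  rw [conj_eq_one_iff, mul_inv_eq_one] at h3
  exact h3.symm

theorem hchar_of_hHom_one {c : Fin P.rank → Lˣ} (e : h.hHom c = 1) {s : ℕ} (hs : s < P.nroots) :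
    hchar P c s = 1 := by
  have e1 := congrArg (fun g : GL D.Idx L => g.val (h.rootIdx _ hs) (h.rootIdx _ hs)) e
  simpa [h.coe_hHom, dM, Ok.rootIdx] using e1

variable {F : Type*} [Field F] [Fintype F]

/-- A Weyl element has order dividing the product of the degrees. -/
theorem WM_pow_card (hC : P.ckComm = true) {J : List ℕ} (hJ : ∀ i < P.rank, i ∈ J) (hO : P.ckOrb J = true)
    {ds : List ℕ} (hp : P.poinP J = pgeom ds) (hpos : 0 < ds.prod) {l : List ℕ} (hl : WordOk P l) :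
    WM P l ^ ds.prod = 1 := by
  have hcard : Nat.card (BN.W (h.bnPair (F := ℚ) hC)) = ds.prod := by
    rw [h.card_W hC hJ]
    have h1 := h.poin_eq J hO 1
    simp only [poin, one_pow, Finset.sum_const, smul_eq_mul, mul_one, hp, pev_one_pgeom] at h1
    exact h1
  have h1 : h.wcl (F := ℚ) hC hl ^ ds.prod = 1 := by rw [← hcard]; exact pow_card_eq_one'
  rw [h.wcl_pow hC hl] at h1
  have h2 := (h.wcl_eq_iff hC _ (l' := []) (fun _ hx => absurd hx List.not_mem_nil)).1 (h1.trans (h.wcl_nil hC).symm)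
  rw [← WM_pw h hl, ← WM_nil h]
  exact WM_congr h h2

/-- The Sylow subgroups for primes not dividing the order of the Weyl group. -/
theorem sylow_homocyclic (hC : P.ckComm = true) {J : List ℕ} (hJ : ∀ i < P.rank, i ∈ J) (hO : P.ckOrb J = true)
    {ds : List ℕ} (hp : P.poinP J = pgeom ds) (hds : ds.length = P.rank)
    {U U' V V' : List (List ℤ)} {d : List ℤ} (hck : ckSmith P U U' V V' d = true)
    (hd1 : ∀ k < P.rank, (d.getD k 0).natAbs ∣ ds.prod) (hgood : Good P ds)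
    {q : ℕ} (hq : Fintype.card F = q) {r : ℕ} [Fact r.Prime] (hrq : ¬ r ∣ q) (hrW : ¬ r ∣ ds.prod)
    (hrG : r ∣ Nat.card ↥(D.group F)) (S : Sylow r ↥(D.group F)) :
    Nonempty (↥(S : Subgroup ↥(D.group F)) ≃* (Fin (aInv ds (orderOf (q : ZMod r))) →
      Multiplicative (ZMod (r ^ padicValNat r
        ((Polynomial.cyclotomic (orderOf (q : ZMod r)) ℤ).eval (q : ℤ)).natAbs)))) := by
  classical
  have hrP := (Fact.out : r.Prime)
  set e := orderOf (q : ZMod r) with he
  set v := padicValNat r ((Polynomial.cyclotomic e ℤ).eval (q : ℤ)).natAbs with hv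
  have hq2 : 2 ≤ q := hq ▸ Fintype.one_lt_card
  have he0 : 0 < e := (orderOf_q_pos hrq).1
  have hre : ¬ r ∣ e := not_dvd_orderOf hrq
  have hdsr : ∀ x ∈ ds, 0 < x ∧ ¬ r ∣ x := fun x hx => by
    refine ⟨Nat.pos_of_ne_zero fun e0 => hrW ?_, fun hd => hrW (hd.trans (List.dvd_prod hx))⟩
    rw [List.prod_eq_zero (e0 ▸ hx)]
    exact dvd_zero r
  have hpos : 0 < ds.prod := Nat.pos_of_ne_zero fun e0 => hrW (e0 ▸ dvd_zero r)
  -- the order
  haveI : Fintype ↥(D.group F) := Fintype.ofFinite _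
  have hval : padicValNat r (Nat.card ↥(D.group F)) = v * aInv ds e := by
    have e1 := h.order_formula (F := F) hC hJ hO hp hds hck
    set g0 := ((List.range P.rank).map fun k => (Fintype.card F - 1).gcd (d.getD k 0).natAbs).prod
    have hg0 : ¬ r ∣ g0 := fun hd => by
      obtain ⟨x, hx, hrx⟩ := (hrP.prime.dvd_prod_iff).1 hd
      obtain ⟨k, hk, rfl⟩ := List.mem_map.1 hx
      exact hrW ((hrx.trans (Nat.gcd_dvd_right _ _)).trans (hd1 k (List.mem_range.1 hk)))
    obtain ⟨h0, h1⟩ := val_prod (r := r) hq2 ds hdsr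
    have e2 := congrArg (padicValNat r) e1
    rw [padicValNat.mul (fun e0 => hg0 (by rw [e0]; exact dvd_zero r)) Nat.card_pos.ne', hq,
      padicValNat.mul (pow_ne_zero _ (by omega)) h0, h1, padicValNat.eq_zero_of_not_dvd hg0,
      padicValNat.eq_zero_of_not_dvd (fun hd => hrq (hrP.dvd_of_dvd_pow hd)), zero_add, zero_add] at e2
    exact e2
  obtain ⟨d0, hd0, hed0⟩ : ∃ x ∈ ds, e ∣ x := by
    by_contra hno
    have ha : aInv ds e = 0 := by
      rw [aInv, List.length_eq_zero_iff, List.filter_eq_nil_iff]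
      exact fun x hx hd => hno ⟨x, hx, of_decide_eq_true hd⟩
    rw [ha, mul_zero] at hval
    have := one_le_padicValNat_of_dvd Nat.card_pos.ne' hrG
    omega
  have hcardS : Nat.card ↥(S : Subgroup ↥(D.group F)) = r ^ (v * aInv ds e) := by
    rw [Sylow.card_eq_multiplicity, Nat.factorization_def _ hrP, hval]
  -- the extension field
  obtain ⟨p, hp'⟩ := CharP.exists F
  haveI := hp'
  haveI : Fact p.Prime := ⟨CharP.char_is_prime F p⟩
  haveI : NeZero e := ⟨he0.ne'⟩
  let L := FiniteField.Extension F p e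
  haveI : Fintype L := Fintype.ofFinite L
  let ι : F →+* L := algebraMap F L
  have hL : Fintype.card L = q ^ e := by
    rw [← Nat.card_eq_fintype_card, FiniteField.natCard_extension F p e, Nat.card_eq_fintype_card, hq]
  set A := q ^ e - 1 with hA
  have hA0 : A ≠ 0 := by
    have := Nat.one_lt_pow he0.ne' (show 1 < q by omega)
    omega
  have hcardU : Nat.card Lˣ = A := by rw [Nat.card_eq_fintype_card, Fintype.card_units, hL]
  have hQ1 : ((q ^ e : ℕ) : ZMod r) = 1 := by rw [Nat.cast_pow, he, pow_orderOf_eq_one]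
  have hAv : padicValNat r A = v := val_pow_sub_one hq2 he0 dvd_rfl hre
  obtain ⟨σ, hσ⟩ : ∃ σ : L →+* L, ∀ x, σ x = x ^ q := by
    obtain ⟨p', hp''⟩ := CharP.exists L
    haveI := hp''
    haveI : Fact p'.Prime := ⟨CharP.char_is_prime L p'⟩
    haveI : CharP F p' := (ι.charP_iff ι.injective p').2 hp''
    obtain ⟨k, -, hk⟩ := FiniteField.card F p'
    exact ⟨iterateFrobenius L p' k, fun x => by rw [iterateFrobenius_def, ← hk, hq]⟩
  have hgσ : ∀ x : GL D.Idx F, gmap D σ (gmap D ι x) = gmap D ι x := fun x => by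
    apply Units.ext
    rw [coe_gmap, coe_gmap, Matrix.map_map]
    congr 1
    funext z
    show σ (ι z) = ι z
    rw [hσ, ← map_pow, ← hq, FiniteField.pow_card]
  have hσh : ∀ c : Fin P.rank → Lˣ, gmap D σ (h.hHom c) = h.hHom (c ^ q) := fun c => by
    rw [h.gmap_hHom σ]
    exact congrArg _ (funext fun i => Units.ext (by simp [hσ]))
  have hmap : ∀ x : ↥(D.group F), gmap D ι (x : GL D.Idx F) ∈ D.group L := fun x =>
    h.map_group_le ι ⟨_, x.2, rfl⟩
  -- into the torus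
  set GL' := D.group L
  let φ : ↥(D.group F) →* ↥GL' := ((gmap D ι).comp (D.group F).subtype).codRestrict GL' hmap
  let TL : Subgroup ↥GL' := (D.diagonalSubgroup L).subgroupOf GL'
  have hidxT : ¬ r ∣ TL.index := by
    have e0 := h.card_group (F := L) hC hJ
    have e1 := TL.card_mul_index
    rw [Nat.card_congr (Subgroup.subgroupOfEquivOfLe h.diagonal_le_group).toEquiv, e0, h.poin_eq J hO, hL,
      mul_comm _ (Nat.card ↥(D.diagonalSubgroup L)), mul_assoc] at e1
    have e2 := Nat.eq_of_mul_eq_mul_left Nat.card_pos e1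
    intro hdvd
    rw [e2, ← ZMod.natCast_eq_zero_iff, Nat.cast_mul, Nat.cast_pow, hQ1, one_pow, one_mul, pev_cast hQ1, hp,
      pev_one_pgeom, ZMod.natCast_eq_zero_iff] at hdvd
    exact hrW hdvd
  obtain ⟨S0⟩ : Nonempty (Sylow r ↥TL) := inferInstance
  have hS1 : IsPGroup r ((S0 : Subgroup ↥TL).map TL.subtype) := S0.isPGroup'.map _
  have hS1i : ¬ r ∣ ((S0 : Subgroup ↥TL).map TL.subtype).index := by
    rw [Subgroup.index_map_subtype]
    exact fun hd => (hrP.dvd_mul.1 hd).elim S0.not_dvd_index hidxT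
  obtain ⟨S2, hS2⟩ := (S.isPGroup'.map φ).exists_le_sylow
  obtain ⟨z, hz⟩ := MulAction.exists_smul_eq ↥GL' S2 (hS1.toSylow hS1i)
  set y : GL D.Idx L := ((z⁻¹ : ↥GL') : GL D.Idx L) with hy
  have hyG : y ∈ GL' := (z⁻¹ : ↥GL').2
  have hc' : ∀ x : ↥(S : Subgroup ↥(D.group F)), ∃ c : Fin P.rank → Lˣ,
      gmap D ι ((x : ↥(D.group F)) : GL D.Idx F) = y * h.hHom c * y⁻¹ := by
    intro x
    have hzx : z * φ x * z⁻¹ ∈ TL := by
      have h1 : z * φ x * z⁻¹ ∈ ((z • S2 : Sylow r ↥GL') : Subgroup ↥GL') :=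
        ⟨φ x, hS2 (Subgroup.mem_map_of_mem φ x.2), rfl⟩
      rw [hz] at h1
      obtain ⟨w, -, hw⟩ := h1
      rw [← hw]
      exact w.2
    obtain ⟨c, hc⟩ := h.mem_diagonal_iff.1 (Subgroup.mem_subgroupOf.1 hzx)
    refine ⟨c, ?_⟩
    rw [hc, hy]
    simp only [Subgroup.coe_mul, Subgroup.coe_inv]
    show _ = _
    group
    rfl
  choose c hc using hc'
  have hSinj : Function.Injective fun x : ↥(S : Subgroup ↥(D.group F)) =>
      gmap D ι ((x : ↥(D.group F)) : GL D.Idx F) := fun a b e1 =>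
    Subtype.ext (Subtype.ext (gmap_injective ι e1))
  let ψ : ↥(S : Subgroup ↥(D.group F)) →* GL D.Idx L :=
    ((gmap D ι).comp (D.group F).subtype).comp (S : Subgroup ↥(D.group F)).subtype
  -- commutative of exponent r ^ v
  have hcomm : ∀ a b : ↥(S : Subgroup ↥(D.group F)), a * b = b * a := fun a b => by
    refine hSinj ?_
    show ψ (a * b) = ψ (b * a)
    rw [map_mul, map_mul, show ψ a = _ from hc a, show ψ b = _ from hc b,
      show y * h.hHom (c a) * y⁻¹ * (y * h.hHom (c b) * y⁻¹) = y * (h.hHom (c a) * h.hHom (c b)) * y⁻¹ by group,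
      show y * h.hHom (c b) * y⁻¹ * (y * h.hHom (c a) * y⁻¹) = y * (h.hHom (c b) * h.hHom (c a)) * y⁻¹ by group,
      ← map_mul, ← map_mul, mul_comm (c a)]
  have hexp : ∀ x : ↥(S : Subgroup ↥(D.group F)), x ^ r ^ v = 1 := fun x => by
    have h1 : x ^ A = 1 := hSinj (by
      show ψ (x ^ A) = ψ 1
      rw [map_pow, map_one, show ψ x = _ from hc x, conj_pow, ← map_pow,
        show c x ^ A = 1 from funext fun i => by rw [Pi.pow_apply, ← hcardU, pow_card_eq_one', Pi.one_apply],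
        map_one, mul_one, mul_inv_cancel])
    obtain ⟨i, hi⟩ := (IsPGroup.iff_orderOf.1 S.isPGroup') x
    have h2 : r ^ i ∣ A := hi ▸ orderOf_dvd_of_pow_eq_one h1
    rw [padicValNat_dvd_iff, hAv] at h2
    refine orderOf_dvd_iff_pow_eq_one.1 ?_
    rw [hi]
    exact pow_dvd_pow r (h2.resolve_left hA0)
  -- the Weyl element
  set n' := y⁻¹ * gmap D σ y with hn'
  have hn'G : n' ∈ GL' := mul_mem (inv_mem hyG) (h.map_group_le σ ⟨y, hyG, rfl⟩)
  have hrel : ∀ x, n' * h.hHom (c x ^ q) * n'⁻¹ = h.hHom (c x) := fun x => by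
    have h1 := hgσ ((x : ↥(D.group F)) : GL D.Idx F)
    rw [hc x, map_mul, map_mul, map_inv, hσh] at h1
    rw [hn', show y⁻¹ * gmap D σ y * h.hHom (c x ^ q) * (y⁻¹ * gmap D σ y)⁻¹ =
      y⁻¹ * (gmap D σ y * h.hHom (c x ^ q) * (gmap D σ y)⁻¹) * y by group, h1]
    group
  obtain ⟨b, hb, l, hl, u, hu, hbnu⟩ := h.bruhat_exists hC hn'G
  have hlrel : ∀ x, h.nW l * h.hHom (c x ^ q) * (h.nW l)⁻¹ = h.hHom (c x) := fun x =>
    weyl_conj h hl hb hu (h.mem_diagonal_iff.2 ⟨c x, rfl⟩) (h.mem_diagonal_iff.2 ⟨c x ^ q, rfl⟩)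
      (hbnu ▸ hrel x)
  -- exponents modulo r
  obtain ⟨ζ, hζ⟩ : ∃ ζ : Lˣ, IsPrimitiveRoot ζ r := by
    obtain ⟨ζ, hζ⟩ := exists_prime_orderOf_dvd_card' (G := Lˣ) r (by
      rw [hcardU, hA]; exact (dvd_pow_sub_one_iff (by omega)).2 dvd_rfl)
    exact ⟨ζ, hζ ▸ IsPrimitiveRoot.orderOf ζ⟩
  haveI : NeZero r := ⟨hrP.ne_zero⟩
  let Zr : Multiplicative (ZMod r) →* Lˣ :=
    { toFun := fun v => ((Additive.toMul (hζ.zmodEquivZPowers v.toAdd) : Subgroup.zpowers ζ) : Lˣ)
      map_one' := by simp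
      map_mul' := fun a b => by simp }
  have hZri : Function.Injective Zr := fun a b e => by
    have e1 : hζ.zmodEquivZPowers a.toAdd = hζ.zmodEquivZPowers b.toAdd := by
      apply Additive.toMul.injective
      exact Subtype.ext e
    exact Multiplicative.toAdd.injective (hζ.zmodEquivZPowers.injective e1)
  have hZinj : ∀ a b : ZMod r, ((Zr (Multiplicative.ofAdd a) : Lˣ) : L) = Zr (Multiplicative.ofAdd b) → a = b :=
    fun a b e => Multiplicative.ofAdd.injective (hZri (Units.ext e))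
  have hpowc : ∀ (c : Fin P.rank → Lˣ) (n s : ℕ), hchar P (c ^ n) s = hchar P c s ^ n := fun c n s => by
    simp only [hchar, ← Finset.prod_pow, Pi.pow_apply, Units.val_pow_eq_pow_val]
    exact Finset.prod_congr rfl fun i _ => by rw [← zpow_natCast, ← zpow_natCast, zpow_comm]
  have hex : ∀ (x : {x : ↥(S : Subgroup ↥(D.group F)) // x ^ r = 1}) (k : Fin P.rank),
      ∃ f : ZMod r, simChar P (c x.1) k = Zr (Multiplicative.ofAdd f) := fun x k => by
    have h0 : h.hHom (c x.1 ^ r) = 1 := by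
      have h1 : ψ x.1 ^ r = 1 := by rw [← map_pow, x.2, map_one]
      rw [show ψ x.1 = _ from hc x.1, conj_pow, conj_eq_one_iff, ← map_pow] at h1
      exact h1
    have h1 : simChar P (c x.1) k ^ r = 1 := by
      apply Units.ext
      rw [Units.val_pow_eq_pow_val, simChar, coe_prod_zpow, ← hpowc, Units.val_one]
      exact hchar_of_hHom_one h h0 (h.sim_lt k.isLt)
    have h2 : simChar P (c x.1) k ∈ Subgroup.zpowers ζ := by
      rw [hζ.zpowers_eq]
      exact h1
    refine ⟨hζ.zmodEquivZPowers.symm (Additive.ofMul ⟨_, h2⟩), ?_⟩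
    simp [Zr]
  choose f hf using hex
  have hχ : ∀ x, ∀ s < P.nroots, hchar P (c x.1) s = (Zr (Multiplicative.ofAdd (dot P (f x) s)) : L) :=
    fun x s hs => hchar_dot h Zr (c x.1) (f x) (hf x) hs
  have heig : ∀ x, tr P l (f x) = (q : ZMod r) • f x := fun x => by
    funext k
    refine hZinj _ _ ?_
    rw [tr_apply, ← hχ x _ (h.wl_lt l hl _ (h.sim_lt k.isLt)), char_wl h hl (hlrel x.1) (h.sim_lt k.isLt),
      hpowc, hχ x _ (h.sim_lt k.isLt), dot_sim h (f x) k, ← Units.val_pow_eq_pow_val, ← map_pow, ← ofAdd_nsmul]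
    simp [nsmul_eq_mul]
  -- the count
  obtain ⟨k, hk1, hk2, hk3, hk4⟩ := eigen_bound hpos (WM_pow_card h hC hJ hO hp hpos hl) hrW he0 hre
    (IsPrimitiveRoot.orderOf (q : ZMod r))
  have hka : k ≤ aInv ds e := hgood l hl e k he0 ⟨d0, hd0, hed0⟩ hk2 hk3 hk4
  have hrank : Nat.card {x : ↥(S : Subgroup ↥(D.group F)) // x ^ r = 1} ≤ r ^ aInv ds e := by
    refine le_trans (Nat.card_le_card_of_injective
      (fun x => (⟨f x, heig x⟩ : {w : Fin P.rank → ZMod r //
        (WM P l).map (Int.castRingHom (ZMod r)) *ᵥ w = (q : ZMod r) • w})) fun x x' e1 => ?_)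
      (hk1.trans (Nat.pow_le_pow_right hrP.pos hka))
    have e2 : f x = f x' := congrArg Subtype.val e1
    refine Subtype.ext (hSinj ?_)
    show gmap D ι _ = gmap D ι _
    rw [hc x.1, hc x'.1, hHom_ext_char h (c := c x.1) (c' := c x'.1) fun s hs => by rw [hχ x s hs, hχ x' s hs, e2]]
  letI : CommGroup ↥(S : Subgroup ↥(D.group F)) :=
    { (inferInstance : Group ↥(S : Subgroup ↥(D.group F))) with mul_comm := hcomm }
  exact homocyclic_of_card hrP hexp hcardS hrank

end Cfsg.Agent.Chev.HomSylow
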