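import Cfsg.Agent.Lib.Chev.CyclTorus.Alg
import Mathlib.LinearAlgebra.Eigenspace.Zero
import Mathlib.LinearAlgebra.Charpoly.ToMatrix
import Mathlib.FieldTheory.Minpoly.IsIntegrallyClosed
import Mathlib.Analysis.Complex.Polynomial.Basic

/-! Eigenspaces modulo a prime of integer matrices of finite order. -/

set_option autoImplicit false

namespace Cfsg.Agent.Chev.HomSylow

open Polynomial
open scoped Matrix

variable {n : ℕ}

theorem monic_cyclo : ∀ L : List ℕ, ((L.map fun d => cyclotomic d ℤ).prod).Monic
  | [] => by simp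
  | d :: L => by rw [List.map_cons, List.prod_cons]; exact (cyclotomic.monic d ℤ).mul (monic_cyclo L)

/-- The characteristic polynomial of a matrix of finite order is a product of cyclotomic polynomials. -/
theorem exists_cyclo_list {M : Matrix (Fin n) (Fin n) ℤ} {o : ℕ} (ho : 0 < o) (hM : M ^ o = 1) :
    ∃ L : List ℕ, (∀ d ∈ L, d ∣ o) ∧ M.charpoly = (L.map fun d => cyclotomic d ℤ).prod ∧
      (L.map Nat.totient).sum = n := by
  classical
  have main : ∀ m : ℕ, ∀ g : ℤ[X], g.Monic → g ∣ M.charpoly → g.natDegree ≤ m →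
      ∃ L : List ℕ, (∀ d ∈ L, d ∣ o) ∧ g = (L.map fun d => cyclotomic d ℤ).prod := by
    intro m
    induction m with
    | zero =>
      intro g hg _ hdeg
      exact ⟨[], by simp, by simp [hg.natDegree_eq_zero.1 (by omega)]⟩
    | succ m ih =>
      intro g hg hdvd hdeg
      by_cases h0 : g.natDegree = 0
      · exact ⟨[], by simp, by simp [hg.natDegree_eq_zero.1 h0]⟩
      obtain ⟨z, hz⟩ := IsAlgClosed.exists_root (g.map (Int.castRingHom ℂ)) (by
        rw [degree_eq_natDegree (hg.map _).ne_zero, hg.natDegree_map]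
        exact_mod_cast h0)
      set Mc := M.map (Int.castRingHom ℂ) with hMc
      have hz' : (Matrix.scalar (Fin n) z - Mc).det = 0 := by
        rw [← Matrix.eval_charpoly, hMc, Matrix.charpoly_map]
        exact eval_eq_zero_of_dvd_of_eval_eq_zero (Polynomial.map_dvd _ hdvd) hz
      obtain ⟨v, hv, hMv⟩ := Matrix.exists_mulVec_eq_zero_iff.2 hz'
      have hMv' : Mc *ᵥ v = z • v := by
        rw [Matrix.sub_mulVec, sub_eq_zero, Matrix.scalar_apply, ← Matrix.smul_one_eq_diagonal, Matrix.smul_mulVec,
          Matrix.one_mulVec] at hMv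
        exact hMv.symm
      have hpow : ∀ k : ℕ, (Mc ^ k) *ᵥ v = z ^ k • v := by
        intro k
        induction k with
        | zero => simp
        | succ k ihk => rw [pow_succ', ← Matrix.mulVec_mulVec, ihk, Matrix.mulVec_smul, hMv', smul_smul, pow_succ]
      have hzo : z ^ o = 1 := by
        have h1 : (z ^ o - 1) • v = 0 := by
          rw [sub_smul, one_smul, ← hpow, show Mc ^ o = 1 by
            rw [hMc, show M.map (Int.castRingHom ℂ) = (Int.castRingHom ℂ).mapMatrix M from rfl, ← map_pow, hM, map_one],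
            Matrix.one_mulVec, sub_self]
        exact sub_eq_zero.1 ((smul_eq_zero.1 h1).resolve_right hv)
      have hdo : orderOf z ∣ o := orderOf_dvd_of_pow_eq_one hzo
      have hd0 : 0 < orderOf z := Nat.pos_of_dvd_of_pos hdo ho
      have hprim : IsPrimitiveRoot z (orderOf z) := IsPrimitiveRoot.orderOf z
      have hdg : cyclotomic (orderOf z) ℤ ∣ g := by
        rw [cyclotomic_eq_minpoly hprim hd0]
        refine minpoly.isIntegrallyClosed_dvd (hprim.isIntegral hd0) ?_
        rw [aeval_def, ← eval_map]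
        exact hz
      obtain ⟨g', rfl⟩ := hdg
      have hg' : g'.Monic := (cyclotomic.monic _ _).of_mul_monic_left hg
      rw [(cyclotomic.monic _ _).natDegree_mul hg', natDegree_cyclotomic] at hdeg
      obtain ⟨L, hL, e⟩ := ih g' hg' (dvd_trans (dvd_mul_left _ _) hdvd)
        (by have := Nat.totient_pos.2 hd0; omega)
      exact ⟨orderOf z :: L, by simpa [hdo] using hL, by rw [e]; simp⟩
  obtain ⟨L, hL, e⟩ := main _ M.charpoly M.charpoly_monic dvd_rfl le_rfl
  refine ⟨L, hL, e, ?_⟩
  have h1 := congrArg natDegree e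
  rw [Matrix.charpoly_natDegree_eq_dim, Fintype.card_fin] at h1
  rw [h1]
  clear h1 hL e
  induction L with
  | nil => simp
  | cons d L ih =>
    rw [List.map_cons, List.sum_cons, List.map_cons, List.prod_cons, (cyclotomic.monic d ℤ).natDegree_mul
      (monic_cyclo L),
      natDegree_cyclotomic, ih]

/-- The eigenspace bound. -/
theorem eigen_bound {M : Matrix (Fin n) (Fin n) ℤ} {o : ℕ} (ho : 0 < o) (hM : M ^ o = 1) {r e : ℕ}
    [Fact r.Prime] (hro : ¬ r ∣ o) (he : 0 < e) (hre : ¬ r ∣ e) {a : ZMod r} (ha : IsPrimitiveRoot a e) :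
    ∃ k : ℕ, Nat.card {x : Fin n → ZMod r // M.map (Int.castRingHom (ZMod r)) *ᵥ x = a • x} ≤ r ^ k ∧
      k * e.totient ≤ n ∧ (0 < k → k * e.totient = n → aeval M (cyclotomic e ℤ) = 0) ∧
      (0 < k → k * e.totient + 1 = n → ∃ c : ℤ, (c = 1 ∨ c = -1) ∧ ¬ (cyclotomic e ℤ).eval c = 0 ∧
        aeval M (cyclotomic e ℤ * (X - C c)) = 0 ∧
        M.charpoly = cyclotomic e ℤ ^ k * (X - C c)) := by
  classical
  obtain ⟨L, hL, hchar, hsum⟩ := exists_cyclo_list ho hM
  haveI : NeZero (e : ZMod r) := ⟨fun h => hre ((ZMod.natCast_eq_zero_iff _ _).1 h)⟩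
  refine ⟨L.count e, ?_, ?_, ?_, ?_⟩
  · set f : Module.End (ZMod r) (Fin n → ZMod r) := (M.map (Int.castRingHom (ZMod r))).toLin'
    have hmem : ∀ x, x ∈ f.eigenspace a ↔ M.map (Int.castRingHom (ZMod r)) *ᵥ x = a • x := fun x => by
      rw [Module.End.mem_eigenspace_iff, Matrix.toLin'_apply]
    rw [← Nat.card_congr (Equiv.subtypeEquivRight hmem), Module.natCard_eq_pow_finrank (K := ZMod r), Nat.card_zmod]
    refine Nat.pow_le_pow_right (Fact.out : r.Prime).pos ((LinearMap.finrank_eigenspace_le f a).trans ?_)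
    rw [Matrix.charpoly_toLin', Matrix.charpoly_map, hchar]
    have key : ∀ L : List ℕ, (∀ d ∈ L, d ∣ o) →
        rootMultiplicity a (((L.map fun d => cyclotomic d ℤ).prod).map (Int.castRingHom (ZMod r))) ≤ L.count e := by
      intro L
      induction L with
      | nil => intro _; simp
      | cons d L ih =>
        intro hd
        have hdo := hd d List.mem_cons_self
        haveI : NeZero (d : ZMod r) := ⟨fun h => hro (dvd_trans ((ZMod.natCast_eq_zero_iff _ _).1 h) hdo)⟩
        have hne : ((cyclotomic d ℤ).map (Int.castRingHom (ZMod r))) *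
            ((L.map fun d => cyclotomic d ℤ).prod).map (Int.castRingHom (ZMod r)) ≠ 0 :=
          mul_ne_zero (((cyclotomic.monic d ℤ).map _).ne_zero)
            ((monic_cyclo L).map _ |>.ne_zero)
        rw [List.map_cons, List.prod_cons, Polynomial.map_mul, rootMultiplicity_mul hne]
        have h1 := ih fun x hx => hd x (List.mem_cons_of_mem _ hx)
        rw [map_cyclotomic_int]
        by_cases hde : d = e
        · subst hde
          rw [List.count_cons_self]
          have := rootMultiplicity_le_one_of_separable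
            ((separable_X_pow_sub_C (1 : ZMod r) (NeZero.ne (d : ZMod r)) one_ne_zero).of_dvd
              (show cyclotomic d (ZMod r) ∣ X ^ d - C 1 by rw [map_one]; exact cyclotomic.dvd_X_pow_sub_one d (ZMod r))) a
          omega
        · rw [List.count_cons_of_ne hde, rootMultiplicity_eq_zero fun h => hde ((isRoot_cyclotomic_iff.1 h).unique ha)]
          omega
    exact key L hL
  · rw [← hsum]
    clear hchar hL hsum
    induction L with
    | nil => simp
    | cons d L ih =>
      by_cases hde : d = e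
      · subst hde; rw [List.count_cons_self, List.map_cons, List.sum_cons, add_mul, one_mul]; omega
      · rw [List.count_cons_of_ne hde, List.map_cons, List.sum_cons]; omega
  all_goals
    have hLrep : L.Perm (List.replicate (L.count e) e ++ L.filter fun d => !(d == e)) := by
      rw [← List.filter_beq]
      exact (List.filter_append_perm _ L).symm
    have hd1 : ∀ d ∈ L.filter (fun d => !(d == e)), d ≠ e ∧ d ∣ o ∧ 1 ≤ d.totient := fun d hd => by
      obtain ⟨hdL, hne⟩ := List.mem_filter.1 hd
      exact ⟨by simpa using hne, hL d hdL, Nat.totient_pos.2 (Nat.pos_of_dvd_of_pos (hL d hdL) ho)⟩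
    have hch : M.charpoly = cyclotomic e ℤ ^ L.count e *
        ((L.filter fun d => !(d == e)).map fun d => cyclotomic d ℤ).prod := by
      rw [hchar, (hLrep.map _).prod_eq, List.map_append, List.prod_append, List.map_replicate, List.prod_replicate]
    have hs : n = L.count e * e.totient + ((L.filter fun d => !(d == e)).map Nat.totient).sum := by
      conv_lhs => rw [← hsum, (hLrep.map _).sum_eq]
      rw [List.map_append, List.sum_append, List.map_replicate, List.sum_replicate, smul_eq_mul]
    have hprime : ∀ d, d ∣ o → Prime (cyclotomic d ℤ) := fun d hd =>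
      (cyclotomic.irreducible (Nat.pos_of_dvd_of_pos hd ho)).prime
    have hmonic : ∀ d, (cyclotomic d ℤ).Monic := fun d => cyclotomic.monic d ℤ
    have hassoc : ∀ d d', d ∣ o → 0 < d' → cyclotomic d ℤ ∣ cyclotomic d' ℤ → d = d' := fun d d' hd hd' h =>
      cyclotomic_injective (eq_of_monic_of_associated (hmonic d) (hmonic d')
        ((hprime d hd).irreducible.associated_of_dvd (cyclotomic.irreducible hd') h))
    have haeval : ∀ S : Finset ℕ, CyclTorus.cycS M o ⊆ S → aeval M (∏ d ∈ S, cyclotomic d ℤ) = 0 := by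
      intro S hS
      rw [← Finset.prod_sdiff hS, map_mul, CyclTorus.prod_cyclo ho hM, mul_zero]
  · intro hk hkn
    cases hf : L.filter (fun d => !(d == e)) with
    | cons d L' =>
      have := hd1 d (by simp [hf])
      rw [hf, List.map_cons, List.sum_cons] at hs
      omega
    | nil =>
      rw [hf, List.map_nil, List.prod_nil, mul_one] at hch
      have := haeval {e} fun d hd => by
        obtain ⟨hdo, hdp⟩ := CyclTorus.mem_cycS.1 hd
        rw [hch] at hdp
        have hdo' := Nat.dvd_of_mem_divisors hdo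
        exact Finset.mem_singleton.2 (hassoc d e hdo' he ((hprime d hdo').dvd_of_dvd_pow hdp))
      rwa [Finset.prod_singleton] at this
  · intro hk hkn
    cases hf : L.filter (fun d => !(d == e)) with
    | nil =>
      rw [hf, List.map_nil, List.sum_nil] at hs
      omega
    | cons d L' =>
      have hd := hd1 d (by simp [hf])
      cases L' with
      | cons d' L'' =>
        have := hd1 d' (by simp [hf])
        rw [hf] at hs
        simp only [List.map_cons, List.sum_cons] at hs
        omega
      | nil =>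
        rw [hf] at hs hch
        simp only [List.map_cons, List.map_nil, List.sum_cons, List.sum_nil, add_zero, List.prod_cons,
          List.prod_nil, mul_one] at hs hch
        have hdpos : 0 < d := Nat.pos_of_dvd_of_pos hd.2.1 ho
        obtain ⟨c, hc, hcy⟩ : ∃ c : ℤ, (c = 1 ∨ c = -1) ∧ cyclotomic d ℤ = X - C c := by
          rcases Nat.totient_eq_one_iff.1 (show d.totient = 1 by omega) with rfl | rfl
          · exact ⟨1, Or.inl rfl, by simp [cyclotomic_one]⟩
          · exact ⟨-1, Or.inr rfl, by simp [cyclotomic_two]⟩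
        rw [hcy] at hch
        refine ⟨c, hc, fun h0 => hd.1 ?_, ?_, hch⟩
        · refine hassoc d e hd.2.1 he ?_
          rw [hcy]
          exact dvd_iff_isRoot.2 h0
        · have := haeval {e, d} fun d' hd' => by
            obtain ⟨hdo, hdp⟩ := CyclTorus.mem_cycS.1 hd'
            have hdo' := Nat.dvd_of_mem_divisors hdo
            rw [hch, ← hcy] at hdp
            rcases (hprime d' hdo').dvd_or_dvd hdp with h | h
            · exact Finset.mem_insert.2 (Or.inl (hassoc d' e hdo' he ((hprime d' hdo').dvd_of_dvd_pow h)))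
            · exact Finset.mem_insert.2 (Or.inr (Finset.mem_singleton.2 (hassoc d' d hdo' hdpos h)))
          rwa [Finset.prod_pair (Ne.symm hd.1), hcy] at this

/-- When a simple root is left, the images of the cyclotomic value lie on a line. -/
theorem image_line {M : Matrix (Fin n) (Fin n) ℤ} {c : ℤ} {g : ℤ[X]} {k : ℕ} (hg : g.eval c ≠ 0)
    (hann : aeval M (g * (X - C c)) = 0) (hchar : M.charpoly = g ^ k * (X - C c)) (x y : Fin n → ℤ)
    (hy : y ᵥ* aeval M g ≠ 0) :
    ∃ t : ℚ, ∀ i, (((x ᵥ* aeval M g) i : ℤ) : ℚ) = t * (((y ᵥ* aeval M g) i : ℤ) : ℚ) := by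
  classical
  set Mq : Matrix (Fin n) (Fin n) ℚ := Mᵀ.map (Int.castRingHom ℚ) with hMq
  have heig : ∀ z : Fin n → ℤ, (fun i => (((z ᵥ* aeval M g) i : ℤ) : ℚ)) ∈ Module.End.eigenspace (Matrix.toLin' Mq) (c : ℚ) := by
    intro z
    rw [Module.End.mem_eigenspace_iff, Matrix.toLin'_apply]
    have h1 : (z ᵥ* aeval M g) ᵥ* M = c • (z ᵥ* aeval M g) := by
      rw [map_mul, map_sub, aeval_X, aeval_C, mul_sub, sub_eq_zero, Algebra.algebraMap_eq_smul_one,
        mul_smul_comm, mul_one] at hann
      rw [Matrix.vecMul_vecMul, hann, Matrix.vecMul_smul]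
    funext i
    have h2 : ((((z ᵥ* aeval M g) ᵥ* M) i : ℤ) : ℚ) = ((c * (z ᵥ* aeval M g) i : ℤ) : ℚ) := by rw [h1]; rfl
    rw [Int.cast_mul] at h2
    simp only [hMq, Matrix.mulVec, dotProduct, Matrix.map_apply, Matrix.transpose_apply, Pi.smul_apply, smul_eq_mul,
      eq_intCast]
    rw [← h2]
    simp only [Matrix.vecMul, dotProduct, Int.cast_sum, Int.cast_mul]
    exact Finset.sum_congr rfl fun j _ => mul_comm _ _
  have hle : Module.finrank ℚ (Module.End.eigenspace (Matrix.toLin' Mq) (c : ℚ)) ≤ 1 := by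
    refine (LinearMap.finrank_eigenspace_le _ _).trans ?_
    have hne : g.map (Int.castRingHom ℚ) ≠ 0 := by
      refine (Polynomial.map_ne_zero_iff Int.cast_injective).2 fun e => hg (by simp [e])
    rw [Matrix.charpoly_toLin', hMq, Matrix.charpoly_map, Matrix.charpoly_transpose, hchar, Polynomial.map_mul,
      Polynomial.map_pow, rootMultiplicity_mul (mul_ne_zero (pow_ne_zero _ hne)
        (by rw [Polynomial.map_sub, map_X, map_C]; exact X_sub_C_ne_zero _)),
      rootMultiplicity_eq_zero (p := g.map (Int.castRingHom ℚ) ^ k) (fun e => ?_)]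
    · rw [zero_add, Polynomial.map_sub, map_X, map_C, eq_intCast]
      exact rootMultiplicity_X_sub_C_self.le
    · rw [IsRoot, eval_pow] at e
      have e1 := eq_zero_of_pow_eq_zero e
      rw [eval_intCast_map, eq_intCast, Int.cast_eq_zero] at e1
      exact hg e1
  obtain ⟨w, -, hw⟩ : ∃ w ∈ Module.End.eigenspace (Matrix.toLin' Mq) (c : ℚ), ∀ v ∈ Module.End.eigenspace (Matrix.toLin' Mq) (c : ℚ),
      ∃ t : ℚ, t • w = v := by
    obtain ⟨w, hw⟩ := finrank_le_one_iff.1 hle
    exact ⟨w, w.2, fun v hv => (hw ⟨v, hv⟩).imp fun t ht => congrArg Subtype.val ht⟩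
  obtain ⟨a, ha⟩ := hw _ (heig x)
  obtain ⟨b, hb⟩ := hw _ (heig y)
  have hb0 : b ≠ 0 := by
    rintro rfl
    refine hy (funext fun i => ?_)
    have := congrFun hb i
    simpa using this.symm
  refine ⟨a / b, fun i => ?_⟩
  rw [← congrFun ha i, ← congrFun hb i, Pi.smul_apply, Pi.smul_apply, smul_eq_mul, smul_eq_mul,
    ← mul_assoc, div_mul_cancel₀ _ hb0]

end Cfsg.Agent.Chev.HomSylow
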